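import Cfsg.Prelude.Def_Chevalley
import Cfsg.Prelude.Def_Classical

/-!
Chevalley groups and special unitary groups under isomorphisms of the field.
-/

set_option autoImplicit false

namespace CfsgLib.Chevalley.G2Two

open Matrix

variable {F F₀ : Type*} [Field F] [Field F₀] (e : F ≃+* F₀)

theorem xMat_map (D : Cfsg.Lie.ChevalleyDatum) (r : Fin D.nroots) (t : F) :
    (D.xMat F r t).map e = D.xMat F₀ r (e t) := by
  ext row col
  simp only [Matrix.map_apply, Cfsg.Lie.ChevalleyDatum.xMat, Matrix.of_apply]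
  rcases col with i | s <;> rcases row with i' | u <;>
    simp [apply_ite e, map_list_sum, List.map_map, Function.comp_def]

/-- The isomorphism of the general linear groups. -/
def glEquiv (ι : Type*) [Fintype ι] [DecidableEq ι] : GL ι F ≃* GL ι F₀ :=
  Units.mapEquiv e.mapMatrix.toMulEquiv

theorem group_map (D : Cfsg.Lie.ChevalleyDatum) :
    (D.group F).map (glEquiv e D.Idx).toMonoidHom = D.group F₀ := by
  rw [Cfsg.Lie.ChevalleyDatum.group, Cfsg.Lie.ChevalleyDatum.group, MonoidHom.map_closure]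
  congr 1
  ext g
  constructor
  · rintro ⟨x, ⟨r, t, hx⟩, rfl⟩
    refine ⟨r, e t, ?_⟩
    show ((x : Matrix D.Idx D.Idx F)).map e = _
    rw [hx, xMat_map e]
  · rintro ⟨r, t, hg⟩
    refine ⟨(glEquiv e D.Idx).symm g, ⟨r, e.symm t, ?_⟩, (glEquiv e D.Idx).apply_symm_apply g⟩
    show ((g : Matrix D.Idx D.Idx F₀)).map e.symm = _
    rw [hg, xMat_map e.symm]

/-- Chevalley groups over isomorphic fields. -/
noncomputable def groupEquiv (D : Cfsg.Lie.ChevalleyDatum) : ↥(D.group F) ≃* ↥(D.group F₀) :=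
  ((glEquiv e D.Idx).subgroupMap _).trans (MulEquiv.subgroupCongr (group_map e D))

variable (n q : ℕ)

theorem hermForm_map (u v : Fin n → F) :
    e (Cfsg.hermForm n F q u v) = Cfsg.hermForm n F₀ q (e ∘ u) (e ∘ v) := by
  simp [Cfsg.hermForm, map_sum]

theorem su_map_mem {g : Matrix.SpecialLinearGroup (Fin n) F} (hg : g ∈ Cfsg.SU n F q) :
    Matrix.SpecialLinearGroup.map e.toRingHom g ∈ Cfsg.SU n F₀ q := by
  intro u v
  have hu : u = e ∘ (e.symm ∘ u) := funext fun k => (e.apply_symm_apply _).symm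
  have hv : v = e ∘ (e.symm ∘ v) := funext fun k => (e.apply_symm_apply _).symm
  have hm : ∀ x : Fin n → F, Cfsg.slToMat n F₀ (Matrix.SpecialLinearGroup.map e.toRingHom g) *ᵥ (e ∘ x) =
      e ∘ (Cfsg.slToMat n F g *ᵥ x) := fun x => funext fun i => (RingHom.map_mulVec e.toRingHom _ x i).symm
  rw [hu, hv, hm, hm, ← hermForm_map, ← hermForm_map, hg]

theorem mapSL_symm (g : Matrix.SpecialLinearGroup (Fin n) F) :
    Matrix.SpecialLinearGroup.map e.symm.toRingHom (Matrix.SpecialLinearGroup.map e.toRingHom g) = g :=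
  Subtype.ext (Matrix.ext fun i j => e.symm_apply_apply _)

/-- Special unitary groups over isomorphic fields. -/
def suCongr : ↥(Cfsg.SU n F q) ≃* ↥(Cfsg.SU n F₀ q) where
  toFun g := ⟨Matrix.SpecialLinearGroup.map e.toRingHom g.1, su_map_mem e n q g.2⟩
  invFun g := ⟨Matrix.SpecialLinearGroup.map e.symm.toRingHom g.1, su_map_mem e.symm n q g.2⟩
  left_inv g := Subtype.ext (mapSL_symm e n g.1)
  right_inv g := Subtype.ext (mapSL_symm e.symm n g.1)
  map_mul' a b := Subtype.ext (map_mul (Matrix.SpecialLinearGroup.map e.toRingHom) a.1 b.1)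

end CfsgLib.Chevalley.G2Two
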