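import Mathlib

/-!
The field with nine elements as `(ZMod 3)[i]`.
-/

set_option autoImplicit false

namespace CfsgLib.Chevalley.G2Two

/-- `a + b i` with `i² = -1` over the field with three elements. -/
@[ext] structure F9 where
  re : ZMod 3
  im : ZMod 3
deriving DecidableEq

namespace F9

instance : Zero F9 := ⟨⟨0, 0⟩⟩
instance : One F9 := ⟨⟨1, 0⟩⟩
instance : Add F9 := ⟨fun x y => ⟨x.re + y.re, x.im + y.im⟩⟩
instance : Neg F9 := ⟨fun x => ⟨-x.re, -x.im⟩⟩
instance : Mul F9 := ⟨fun x y => ⟨x.re * y.re - x.im * y.im, x.re * y.im + x.im * y.re⟩⟩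

@[simp] theorem zero_re : (0 : F9).re = 0 := rfl
@[simp] theorem zero_im : (0 : F9).im = 0 := rfl
@[simp] theorem one_re : (1 : F9).re = 1 := rfl
@[simp] theorem one_im : (1 : F9).im = 0 := rfl
@[simp] theorem add_re (x y : F9) : (x + y).re = x.re + y.re := rfl
@[simp] theorem add_im (x y : F9) : (x + y).im = x.im + y.im := rfl
@[simp] theorem neg_re (x : F9) : (-x).re = -x.re := rfl
@[simp] theorem neg_im (x : F9) : (-x).im = -x.im := rfl
@[simp] theorem mul_re (x y : F9) : (x * y).re = x.re * y.re - x.im * y.im := rfl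
@[simp] theorem mul_im (x y : F9) : (x * y).im = x.re * y.im + x.im * y.re := rfl

instance : CommRing F9 where
  add_assoc a b c := by ext <;> simp [add_assoc]
  zero_add a := by ext <;> simp
  add_zero a := by ext <;> simp
  add_comm a b := by ext <;> simp [add_comm]
  neg_add_cancel a := by ext <;> simp
  nsmul := nsmulRec
  zsmul := zsmulRec
  left_distrib a b c := by ext <;> simp <;> ring
  right_distrib a b c := by ext <;> simp <;> ring
  zero_mul a := by ext <;> simp
  mul_zero a := by ext <;> simp
  mul_assoc a b c := by ext <;> simp <;> ring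
  one_mul a := by ext <;> simp
  mul_one a := by ext <;> simp
  mul_comm a b := by ext <;> simp <;> ring

/-- The bijection with `Fin 9`. -/
def equivFin : Fin 9 ≃ F9 where
  toFun k := ⟨((k.val / 3 : ℕ) : ZMod 3), ((k.val % 3 : ℕ) : ZMod 3)⟩
  invFun x := ⟨x.re.val * 3 + x.im.val, by
    have h1 := x.re.val_lt
    have h2 := x.im.val_lt
    omega⟩
  left_inv := by decide
  right_inv := by rintro ⟨a, b⟩; revert a b; decide

instance : Fintype F9 := Fintype.ofEquiv _ equivFin

/-- The element with the given code. -/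
def ofNat9 (k : ℕ) : F9 := ⟨((k / 3 : ℕ) : ZMod 3), ((k % 3 : ℕ) : ZMod 3)⟩

/-- The code of an element. -/
def code (x : F9) : ℕ := x.re.val * 3 + x.im.val

/-- The conjugation. -/
def conj : F9 →+* F9 where
  toFun x := ⟨x.re, -x.im⟩
  map_one' := by decide
  map_mul' := by decide
  map_zero' := by decide
  map_add' := by decide

@[simp] theorem conj_conj : ∀ x : F9, conj (conj x) = x := by decide

theorem conj_eq : ∀ x : F9, x * x * x = conj x := by decide

instance : Inv F9 := ⟨fun x => ⟨(x.re * x.re + x.im * x.im) * x.re, -((x.re * x.re + x.im * x.im) * x.im)⟩⟩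

theorem mul_inv' : ∀ x : F9, x ≠ 0 → x * x⁻¹ = 1 := by decide

instance : Nontrivial F9 := ⟨⟨0, 1, by decide⟩⟩

instance : Field F9 where
  mul_inv_cancel := mul_inv'
  inv_zero := by decide
  nnqsmul := _
  qsmul := _

theorem card_F9 : Fintype.card F9 = 9 := rfl

end F9

end CfsgLib.Chevalley.G2Two
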